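import Groth.Agent.H4Depth.CM
import Mathlib.RingTheory.Ideal.KrullsHeightTheorem
import Mathlib.RingTheory.RegularLocalRing.Defs

/-!
Exchange of generators and dimension counts in a Cohen–Macaulay local ring.
-/

set_option autoImplicit false

universe u

open IsLocalRing Pointwise

namespace Groth.Agent.H02CA.DSeqGen

section Exchange

variable {R : Type u} [CommRing R] [IsLocalRing R]

theorem exists_exchange (t : List R) (N : Ideal R) (ht : Ideal.ofList t ≤ N) :
    ∀ (g : List R) (x : R), (∀ y ∈ g, ∀ c ∈ maximalIdeal R, c * y ∈ N) → x ∈ Ideal.ofList (t ++ g) → x ∉ N →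
      ∃ g' : List R, g'.length + 1 = g.length ∧ Ideal.ofList (t ++ [x] ++ g') = Ideal.ofList (t ++ g) := by
  intro g
  induction g with
  | nil =>
    intro x _ hx hxN
    exact absurd (ht (by simpa using hx)) hxN
  | cons y g ih =>
    intro x hg hx hxN
    simp only [Ideal.ofList_append, Ideal.ofList_cons, Ideal.ofList_nil, sup_bot_eq] at hx ⊢
    obtain ⟨a, ha, z, hz, rfl⟩ := Submodule.mem_sup.1 hx
    obtain ⟨cy, hcy, b, hb, rfl⟩ := Submodule.mem_sup.1 hz
    obtain ⟨c, rfl⟩ := Ideal.mem_span_singleton'.1 hcy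
    by_cases hc : IsUnit c
    · refine ⟨g, rfl, le_antisymm ?_ ?_⟩
      · refine sup_le (sup_le le_sup_left ?_) (le_sup_right.trans le_sup_right)
        rw [Ideal.span_singleton_le_iff_mem]
        exact hx
      · refine sup_le (le_sup_left.trans le_sup_left) (sup_le ?_ le_sup_right)
        rw [Ideal.span_singleton_le_iff_mem, ← Ideal.unit_mul_mem_iff_mem _ hc]
        have hx' : a + (c * y + b) ∈ (Ideal.ofList t ⊔ Ideal.span {a + (c * y + b)}) ⊔ Ideal.ofList g :=
          Ideal.mem_sup_left (Ideal.mem_sup_right (Ideal.mem_span_singleton_self _))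
        have h' := Submodule.sub_mem _ hx'
          (Submodule.add_mem _ (Ideal.mem_sup_left (Ideal.mem_sup_left ha)) (Ideal.mem_sup_right hb))
        convert h' using 1
        ring
    · have hcN : c * y ∈ N := hg y List.mem_cons_self c ((mem_maximalIdeal c).2 hc)
      obtain ⟨g', hlen, hg'⟩ := ih (a + b) (fun w hw => hg w (List.mem_cons_of_mem _ hw))
        (by simpa [Ideal.ofList_append] using Submodule.add_mem_sup ha hb) (fun h => hxN (by
          have := N.add_mem h hcN
          convert this using 1
          ring))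
      simp only [Ideal.ofList_append, Ideal.ofList_cons, Ideal.ofList_nil, sup_bot_eq] at hg'
      refine ⟨y :: g', by simp [← hlen], ?_⟩
      rw [Ideal.ofList_cons]
      have key : Ideal.span {a + (c * y + b)} ⊔ Ideal.span {y} = Ideal.span {a + b} ⊔ Ideal.span {y} := by
        rw [← Ideal.span_union, ← Ideal.span_union, Set.singleton_union, Set.singleton_union,
          Ideal.span_pair_comm, Ideal.span_pair_comm (x := a + b), show a + (c * y + b) = a + b + c * y by ring]
        refine le_antisymm (Ideal.span_le.2 ?_) (Ideal.span_le.2 ?_)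
        · rintro w (rfl | rfl)
          · exact Ideal.subset_span (Set.mem_insert _ _)
          · exact Ideal.mem_span_pair.2 ⟨c, 1, by ring⟩
        · rintro w (rfl | rfl)
          · exact Ideal.subset_span (Set.mem_insert _ _)
          · exact Ideal.mem_span_pair.2 ⟨-c, 1, by ring⟩
      rw [sup_assoc (Ideal.ofList t), ← sup_assoc (Ideal.span {a + (c * y + b)}), key,
        sup_comm (Ideal.span {a + b}), sup_assoc (Ideal.span {y}), sup_left_comm, ← sup_assoc (Ideal.ofList t),
        hg', sup_left_comm]

theorem spanFinrank_le_length {I : Ideal R} {l : List R} (h : I = Ideal.ofList l) :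
    Submodule.spanFinrank I ≤ l.length := by
  classical
  have hs : {r | r ∈ l} = (l.toFinset : Set R) := by ext; simp
  rw [h, Ideal.ofList, hs, Ideal.span]
  refine (Submodule.spanFinrank_span_le_ncard_of_finite (l.toFinset.finite_toSet)).trans ?_
  rw [Set.ncard_coe_finset]
  exact l.toFinset_card_le

theorem exists_list_eq {I : Ideal R} (h : I.FG) :
    ∃ l : List R, I = Ideal.ofList l ∧ l.length = Submodule.spanFinrank I := by
  obtain ⟨s, hs, hspan⟩ := Submodule.FG.exists_span_finset_card_eq_spanFinrank h
  refine ⟨s.toList, ?_, by rw [Finset.length_toList, hs]⟩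
  rw [← hspan, Ideal.ofList, Ideal.span]
  congr 1
  ext; simp

end Exchange

section Dim

variable {T : Type u} [CommRing T]

theorem coheight_eq_ringKrullDim (q : PrimeSpectrum T) :
    ((Order.coheight q : ℕ∞) : WithBot ℕ∞) = ringKrullDim (T ⧸ q.asIdeal) := by
  rw [Order.coheight_eq_krullDim_Ici, ringKrullDim_quotient]
  refine Order.krullDim_eq_of_orderIso (OrderIso.setCongr _ _ ?_)
  ext x
  rfl

variable [IsNoetherianRing T] [IsLocalRing T]

/-- Appending a regular element keeps the quotient Cohen–Macaulay and lowers the dimension by one. -/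
theorem isCM_step {J : Ideal T} {x : T} (hx : x ∈ maximalIdeal T)
    (h : LocCoh.IsCohenMacaulayModule T (T ⧸ J)) (hreg : IsSMulRegular (T ⧸ J) x) :
    LocCoh.IsCohenMacaulayModule T (T ⧸ (J ⊔ Ideal.span {x})) ∧
      Module.supportDim T (T ⧸ (J ⊔ Ideal.span {x})) + 1 = Module.supportDim T (T ⧸ J) := by
  have hmap : x • (⊤ : Submodule T (T ⧸ J)) = Submodule.map (Submodule.mkQ J) (Ideal.span {x}) := by
    rw [H4Depth.smul_eq_span_singleton_smul_top, ← Submodule.range_mkQ J, ← Submodule.map_top,
      ← Submodule.map_smul'', smul_eq_mul, Ideal.mul_top]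
  let e : QuotSMulTop x (T ⧸ J) ≃ₗ[T] T ⧸ (J ⊔ Ideal.span {x}) :=
    (Submodule.quotEquivOfEq _ _ hmap).trans (Submodule.quotientQuotientEquivQuotientSup J (Ideal.span {x}))
  have h1 := (H4Depth.isCM_quotSMulTop_iff hx hreg).2 h
  have h2 := Module.supportDim_quotSMulTop_succ_eq_supportDim hreg hx
  rw [LocCoh.IsCohenMacaulayModule, Module.supportDim_eq_of_equiv e, H4Depth.depth_congr e] at h1
  rw [Module.supportDim_eq_of_equiv e] at h2
  exact ⟨h1, h2⟩

end Dim

end Groth.Agent.H02CA.DSeqGen
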