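import Groth.Agent.H02CA.DSeqGen.Basic
import Groth.Prelude.Def_W4c5grrsingularflatDSeq

/-!
A prime with at most one generator more than its height, locally regular, in a Cohen–Macaulay local ring,
is generated by a d-sequence.
-/

set_option autoImplicit false

universe u

open IsLocalRing

namespace Groth.Agent.H02CA.DSeqGen

variable {T : Type u} [CommRing T] [LocCoh.IsCohenMacaulayLocalRing T]

/-- The state of the construction after `i` steps. -/
def Good (p : Ideal T) [p.IsPrime] (n h d i : ℕ) : Prop :=
  ∃ ts g : List T, ∃ g' : List (Localization.AtPrime p),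
    ts.length = i ∧ g.length + i = n ∧ g'.length + i = h ∧
    p = Ideal.ofList (ts ++ g) ∧
    maximalIdeal (Localization.AtPrime p) = Ideal.ofList (ts.map (algebraMap T (Localization.AtPrime p)) ++ g') ∧
    LocCoh.IsCohenMacaulayModule T (T ⧸ Ideal.ofList ts) ∧
    Module.supportDim T (T ⧸ Ideal.ofList ts) + (i : WithBot ℕ∞) = (d : WithBot ℕ∞) ∧
    ∀ (j : ℕ) (hj : j < ts.length), IsSMulRegular (T ⧸ Ideal.ofList (ts.take j)) ts[j]

theorem coheight_add_eq {J : Ideal T} {i d : ℕ} (hcm : LocCoh.IsCohenMacaulayModule T (T ⧸ J))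
    (hdim : Module.supportDim T (T ⧸ J) + (i : WithBot ℕ∞) = (d : WithBot ℕ∞)) {q : Ideal T}
    (hq : q ∈ associatedPrimes T (T ⧸ J)) :
    Order.coheight (⟨q, hq.isPrime⟩ : PrimeSpectrum T) + i = d := by
  have h := coheight_eq_ringKrullDim (⟨q, hq.isPrime⟩ : PrimeSpectrum T)
  rw [H4Depth.IsCM.ringKrullDim_quotient_eq hcm hq] at h
  rw [← h] at hdim
  exact_mod_cast hdim

theorem height_add_coheight_le' (p : Ideal T) [p.IsPrime] {h d : ℕ} (hh : p.height = h)
    (hd : ringKrullDim T = (d : WithBot ℕ∞)) :
    (h : ℕ∞) + Order.coheight (⟨p, ‹_›⟩ : PrimeSpectrum T) ≤ d := by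
  have := H4Depth.height_add_coheight_le (⟨p, ‹_›⟩ : PrimeSpectrum T)
  have e : Order.height (⟨p, ‹_›⟩ : PrimeSpectrum T) = h := by
    rw [← hh]; exact (PrimeSpectrum.height_eq_orderHeight _).symm
  rw [e] at this
  exact_mod_cast this.trans_eq hd

theorem good_zero (p : Ideal T) [p.IsPrime] [IsRegularLocalRing (Localization.AtPrime p)] (n h d : ℕ)
    (hn : Submodule.spanFinrank p = n) (hh : p.height = h) (hd : ringKrullDim T = (d : WithBot ℕ∞)) :
    Good p n h d 0 := by
  obtain ⟨g, hg, hgl⟩ := exists_list_eq (IsNoetherian.noetherian p : p.FG)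
  obtain ⟨g', hg', hgl'⟩ := exists_list_eq (IsNoetherian.noetherian (maximalIdeal (Localization.AtPrime p)) :
    (maximalIdeal (Localization.AtPrime p)).FG)
  have hlen : g'.length = h := by
    have := IsRegularLocalRing.spanFinrank_maximalIdeal (R := Localization.AtPrime p)
    rw [IsLocalization.AtPrime.ringKrullDim_eq_height p (Localization.AtPrime p), hh, ← hgl'] at this
    exact_mod_cast this
  let e : T ≃ₗ[T] T ⧸ Ideal.ofList ([] : List T) :=
    ((Submodule.quotEquivOfEq _ ⊥ (by simp)).trans (Submodule.quotEquivOfEqBot ⊥ rfl)).symm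
  refine ⟨[], g, g', rfl, by omega, by omega, by simpa using hg, by simpa using hg', ?_, ?_, fun j hj => ?_⟩
  · rw [LocCoh.IsCohenMacaulayModule, ← Module.supportDim_eq_of_equiv e, ← H4Depth.depth_congr e]
    exact LocCoh.IsCohenMacaulayLocalRing.supportDim_eq_depth
  · rw [← Module.supportDim_eq_of_equiv e, Module.supportDim_self_eq_ringKrullDim, hd]
    simp
  · simp at hj

theorem good_succ (p : Ideal T) [p.IsPrime] [IsRegularLocalRing (Localization.AtPrime p)] (n h d i : ℕ)
    (hn : Submodule.spanFinrank p = n) (hhn : h ≤ n) (hh : p.height = h)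
    (hd : ringKrullDim T = (d : WithBot ℕ∞)) (hi : i < h) (hgood : Good p n h d i) : Good p n h d (i + 1) := by
  classical
  obtain ⟨ts, g, g', hts, hgn, hgh, hp, hm, hcm, hdim, hreg⟩ := hgood
  let S := Localization.AtPrime p
  let φ := algebraMap T S
  let N1 : Ideal T := Ideal.ofList ts ⊔ maximalIdeal T * p
  let N' : Ideal S := Ideal.ofList (ts.map φ) ⊔ maximalIdeal S * maximalIdeal S
  let N2 : Ideal T := N'.comap φ
  have hpmax : p ≤ maximalIdeal T := le_maximalIdeal ‹p.IsPrime›.ne_top
  have h1 : ¬ p ≤ N1 := fun hle => by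
    have : p ≤ Ideal.ofList ts :=
      Submodule.le_of_le_smul_of_le_jacobson_bot (IsNoetherian.noetherian p)
        (IsLocalRing.maximalIdeal_le_jacobson ⊥) hle
    have hpts : p = Ideal.ofList ts := le_antisymm this (hp ▸ by rw [Ideal.ofList_append]; exact le_sup_left)
    have := spanFinrank_le_length hpts
    omega
  have h2 : ¬ p ≤ N2 := fun hle => by
    have hle' : maximalIdeal S ≤ N' := by
      rw [← Localization.AtPrime.map_eq_maximalIdeal, Ideal.map_le_iff_le_comap]
      exact hle
    have : maximalIdeal S ≤ Ideal.ofList (ts.map φ) :=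
      Submodule.le_of_le_smul_of_le_jacobson_bot (IsNoetherian.noetherian _)
        (IsLocalRing.maximalIdeal_le_jacobson ⊥) hle'
    have hmts : maximalIdeal S = Ideal.ofList (ts.map φ) :=
      le_antisymm this (hm ▸ by rw [Ideal.ofList_append]; exact le_sup_left)
    have hlen := spanFinrank_le_length hmts
    have := IsRegularLocalRing.spanFinrank_maximalIdeal (R := S)
    rw [IsLocalization.AtPrime.ringKrullDim_eq_height p S, hh] at this
    have : Submodule.spanFinrank (maximalIdeal S) = h := by exact_mod_cast this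
    rw [List.length_map] at hlen
    omega
  have h3 : ∀ q ∈ associatedPrimes T (T ⧸ Ideal.ofList ts), ¬ p ≤ q := fun q hq hle => by
    have e1 := coheight_add_eq hcm hdim hq
    have e2 := height_add_coheight_le' p hh hd
    have e3 : Order.coheight (⟨q, hq.isPrime⟩ : PrimeSpectrum T) ≤ Order.coheight (⟨p, ‹_›⟩ : PrimeSpectrum T) :=
      Order.coheight_anti hle
    generalize Order.coheight (⟨q, hq.isPrime⟩ : PrimeSpectrum T) = a at e1 e3
    generalize Order.coheight (⟨p, ‹_›⟩ : PrimeSpectrum T) = b at e2 e3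
    induction b using ENat.recTopCoe with
    | top => simp at e2
    | coe b =>
      obtain ⟨a, rfl, -⟩ := ENat.le_coe_iff.1 e3
      norm_cast at e1 e2 e3
      omega
  have hfin := associatedPrimes.finite T (T ⧸ Ideal.ofList ts)
  let s : Finset (Option (Option (Ideal T))) :=
    insert none (insert (some none) (hfin.toFinset.image fun q => some (some q)))
  let f : Option (Option (Ideal T)) → Ideal T := fun o => o.elim N1 fun o' => o'.elim N2 id
  have hnot : ¬ (p : Set T) ⊆ ⋃ o ∈ (↑s : Set (Option (Option (Ideal T)))), f o := fun hsub => by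
    obtain ⟨o, ho, hle⟩ := (Ideal.subset_union_prime none (some none) (fun o ho h₁ h₂ => by
      simp only [s, Finset.mem_insert, h₁, h₂, false_or, Finset.mem_image, Set.Finite.mem_toFinset] at ho
      obtain ⟨q, hq, rfl⟩ := ho
      exact hq.isPrime)).1 hsub
    simp only [s, Finset.mem_insert, Finset.mem_image, Set.Finite.mem_toFinset] at ho
    rcases ho with rfl | rfl | ⟨q, hq, rfl⟩
    exacts [h1 hle, h2 hle, h3 q hq hle]
  obtain ⟨x, hxp, hx⟩ := Set.not_subset.1 hnot
  simp only [Set.mem_iUnion, not_exists] at hx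
  have hx1 : x ∉ N1 := fun h => hx none (by simp [s]) h
  have hx2 : φ x ∉ N' := fun h => hx (some none) (by simp [s]) h
  have hxreg : IsSMulRegular (T ⧸ Ideal.ofList ts) x := by
    by_contra hnreg
    have : x ∈ ⋃ q ∈ associatedPrimes T (T ⧸ Ideal.ofList ts), (q : Set T) := by
      rw [biUnion_associatedPrimes_eq_compl_regular]
      exact hnreg
    simp only [Set.mem_iUnion] at this
    obtain ⟨q, hq, hxq⟩ := this
    exact hx (some (some q)) (by simp [s, hq]) hxq
  obtain ⟨g₂, hg₂, hp₂⟩ := exists_exchange ts N1 le_sup_left g x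
    (fun y hy c hc => Ideal.mem_sup_right (Ideal.mul_mem_mul hc (hp ▸ Ideal.subset_span (by simp [hy]))))
    (hp ▸ hxp) hx1
  obtain ⟨g₂', hg₂', hm₂⟩ := exists_exchange (ts.map φ) N' le_sup_left g' (φ x)
    (fun y hy c hc => Ideal.mem_sup_right (Ideal.mul_mem_mul hc (hm ▸ Ideal.subset_span (List.mem_append_right _ hy))))
    (hm ▸ (IsLocalization.AtPrime.to_map_mem_maximal_iff S p x).2 hxp) hx2
  obtain ⟨hcm', hdim'⟩ := isCM_step (hpmax hxp) hcm hxreg
  have hJ : Ideal.ofList (ts ++ [x]) = Ideal.ofList ts ⊔ Ideal.span {x} := by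
    simp [Ideal.ofList_append]
  refine ⟨ts ++ [x], g₂, g₂', by simp [hts], by omega, by omega, hp.trans hp₂.symm, ?_, ?_, ?_, ?_⟩
  · rw [List.map_append, List.map_singleton]
    exact hm.trans hm₂.symm
  · exact hJ ▸ hcm'
  · rw [hJ, Nat.cast_add, Nat.cast_one, add_comm (i : WithBot ℕ∞), ← add_assoc, hdim', hdim]
  · intro j hj
    by_cases hlt : j < ts.length
    · rw [List.take_append_of_le_length hlt.le, List.getElem_append_left hlt]
      exact hreg j hlt
    · have : j = ts.length := by simp at hj; omega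
      subst this
      rw [List.take_left]
      simpa using hxreg

theorem good (p : Ideal T) [p.IsPrime] [IsRegularLocalRing (Localization.AtPrime p)] (n h d : ℕ)
    (hn : Submodule.spanFinrank p = n) (hhn : h ≤ n) (hh : p.height = h)
    (hd : ringKrullDim T = (d : WithBot ℕ∞)) : ∀ i ≤ h, Good p n h d i
  | 0, _ => good_zero p n h d hn hh hd
  | i + 1, hi => good_succ p n h d i hn hhn hh hd hi (good p n h d hn hhn hh hd i (by omega))

theorem exists_isDSeq (p : Ideal T) [p.IsPrime] (hgen : (Submodule.spanFinrank p : ℕ∞) ≤ p.height + 1)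
    [IsRegularLocalRing (Localization.AtPrime p)] :
    ∃ ts : List T, Ideal.ofList ts = p ∧ W4c5grrsingularflat.IsDSeq ts := by
  classical
  have htop : p.height ≠ ⊤ := Ideal.height_ne_top ‹p.IsPrime›.ne_top
  obtain ⟨h, hh⟩ := ENat.ne_top_iff_exists.1 htop
  obtain ⟨n, hn⟩ : ∃ n, Submodule.spanFinrank p = n := ⟨_, rfl⟩
  have hhn : h ≤ n := by
    have := p.height_le_spanFinrank ‹p.IsPrime›.ne_top
    rw [← hh, hn] at this
    exact_mod_cast this
  have hn1 : n ≤ h + 1 := by
    rw [hn, ← hh] at hgen
    exact_mod_cast hgen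
  obtain ⟨d, hd⟩ : ∃ d : ℕ, ringKrullDim T = (d : WithBot ℕ∞) := by
    obtain ⟨d, hd⟩ := H4Depth.exists_nat_supportDim_eq (R := T) (M := T)
    exact ⟨d, by rwa [Module.supportDim_self_eq_ringKrullDim] at hd⟩
  obtain ⟨ts, g, g', hts, hgn, hgh, hp, hm, hcm, hdim, hreg⟩ := good p n h d hn hhn hh.symm hd h le_rfl
  obtain rfl : g' = [] := List.length_eq_zero_iff.1 (by omega)
  let rs := ts ++ g
  have hrs : rs.length = n := by simp [rs]; omega
  refine ⟨rs, hp.symm, fun i hi => ?_, fun i k hk hik => ?_⟩
  · have hspan : p = Ideal.ofList (rs.eraseIdx i) := by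
      refine le_antisymm ?_ ?_
      · rw [hp, Ideal.ofList, Ideal.span_le]
        intro r hr
        obtain ⟨j, hj, rfl⟩ := List.getElem_of_mem hr
        by_cases hji : j = i.1
        · subst hji
          refine (Ideal.span_le.2 ?_) hi
          rintro _ ⟨⟨a, ha⟩, rfl⟩
          exact Ideal.subset_span (List.mem_eraseIdx_iff_getElem.2 ⟨a.1, a.2, fun e => ha (Fin.ext e), rfl⟩)
        · exact Ideal.subset_span (List.mem_eraseIdx_iff_getElem.2 ⟨j, hj, hji, rfl⟩)
      · rw [hp, Ideal.ofList, Ideal.span_le]
        exact fun r hr => Ideal.subset_span (List.eraseIdx_subset hr)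
    have := spanFinrank_le_length hspan
    rw [List.length_eraseIdx_of_lt i.2] at this
    have := i.2
    omega
  · refine le_antisymm (fun y hy => ?_) fun y hy => ?_
    swap
    · rw [Submodule.mem_colon_singleton, smul_eq_mul] at hy ⊢
      rw [← mul_assoc]
      exact Ideal.mul_mem_right _ _ hy
    rw [Submodule.mem_colon_singleton, smul_eq_mul] at hy ⊢
    by_cases hih : i < ts.length
    · have hti : rs.take i = ts.take i := List.take_append_of_le_length hih.le
      have hri : rs[i]'(Nat.lt_of_le_of_lt hik hk) = ts[i] := List.getElem_append_left hih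
      rw [hti, hri] at hy
      rw [hti, ← Ideal.Quotient.eq_zero_iff_mem]
      refine hreg i hih ?_
      change ts[i] • Ideal.Quotient.mk _ (y * rs[k]) = ts[i] • (0 : T ⧸ Ideal.ofList (ts.take i))
      rw [smul_zero, Algebra.smul_def, Ideal.Quotient.algebraMap_eq, ← map_mul, Ideal.Quotient.eq_zero_iff_mem]
      convert hy using 1
      ring
    · obtain rfl : i = k := by omega
      obtain rfl : i = ts.length := by omega
      obtain ⟨t, rfl⟩ : ∃ t, g = [t] := List.length_eq_one_iff.1 (by omega)
      have hti : rs.take ts.length = ts := List.take_left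
      have hr : rs[ts.length] = t := by simp [rs]
      rw [hr, hti] at hy ⊢
      by_contra hyJ
      have hne : Ideal.Quotient.mk (Ideal.ofList ts) (y * t) ≠ 0 := fun e => hyJ (Ideal.Quotient.eq_zero_iff_mem.1 e)
      obtain ⟨q, hq, hle⟩ := exists_le_isAssociatedPrime_of_isNoetherianRing T _ hne
      have hann : ∀ c, c * (y * t) ∈ Ideal.ofList ts → c ∈ q := fun c hc => hle (by
        rw [Submodule.mem_colon_singleton, Submodule.mem_bot]
        exact Ideal.Quotient.eq_zero_iff_mem.2 hc)
      have htq : t ∈ q := hann t (by convert hy using 1; ring)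
      have hJq : Ideal.ofList ts ≤ q := fun c hc => hann c (Ideal.mul_mem_right _ _ hc)
      have hpq : p ≤ q := by
        rw [hp, Ideal.ofList_append, Ideal.ofList_singleton]
        exact sup_le hJq ((Ideal.span_singleton_le_iff_mem _).2 htq)
      obtain ⟨⟨⟨a, ha⟩, s⟩, hs⟩ := (IsLocalization.mem_map_algebraMap_iff p.primeCompl (Localization.AtPrime p)).1
        (show algebraMap T (Localization.AtPrime p) t ∈ (Ideal.ofList ts).map (algebraMap T _) by
          rw [Ideal.map_ofList, ← List.append_nil (ts.map _), ← hm,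
            IsLocalization.AtPrime.to_map_mem_maximal_iff (Localization.AtPrime p) p]
          rw [hp]
          exact Ideal.subset_span (by simp))
      rw [← map_mul] at hs
      obtain ⟨c, hc⟩ := (IsLocalization.eq_iff_exists p.primeCompl (Localization.AtPrime p)).1 hs
      have hsq : (c : T) * s ∈ q := hann _ (by
        have : (c : T) * (t * s) ∈ Ideal.ofList ts := by rw [hc]; exact Ideal.mul_mem_left _ _ ha
        convert Ideal.mul_mem_left _ y this using 1
        ring)
      have hne' : p ≠ q := fun e => (c * s).2 (e ▸ hsq)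
      have e1 := coheight_add_eq hcm hdim hq
      have e2 := height_add_coheight_le' p hh.symm hd
      have hlt : (⟨p, ‹_›⟩ : PrimeSpectrum T) < ⟨q, hq.isPrime⟩ := lt_of_le_of_ne hpq fun e =>
        hne' (congrArg PrimeSpectrum.asIdeal e)
      have e4 := Order.coheight_add_one_le hlt
      generalize Order.coheight (⟨q, hq.isPrime⟩ : PrimeSpectrum T) = a at e1 e4
      generalize Order.coheight (⟨p, ‹_›⟩ : PrimeSpectrum T) = b at e2 e4
      induction b using ENat.recTopCoe with
      | top => simp at e2
      | coe b =>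
        induction a using ENat.recTopCoe with
        | top => simp at e1
        | coe a => norm_cast at e1 e2 e4; omega

end Groth.Agent.H02CA.DSeqGen
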